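import Mathlib.AlgebraicGeometry.Fiber
import Mathlib.AlgebraicGeometry.Stalk
import Mathlib.AlgebraicGeometry.Morphisms.Preimmersion
import Mathlib.AlgebraicGeometry.Morphisms.FiniteType
import Mathlib.AlgebraicGeometry.Noetherian
import Mathlib.RingTheory.Ideal.KrullsHeightTheorem

/-!
The dimension inequality for local rings of fibres.
-/

universe u

open AlgebraicGeometry CategoryTheory IsLocalRing

namespace Groth.Agent.FibreDim

theorem ringKrullDim_le_add_of_primes {R S T : Type u} [CommRing R] [CommRing S] [CommRing T]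
    [IsNoetherianRing R] [IsNoetherianRing S] [IsLocalRing R] [IsLocalRing S] [Algebra R S] [IsLocalHom (algebraMap R S)]
    (π : S →+* T) (hπ : Function.Surjective π)
    (hlift : ∀ P : PrimeSpectrum S, (maximalIdeal R).map (algebraMap R S) ≤ P.asIdeal →
      P ∈ Set.range (PrimeSpectrum.comap π)) :
    ringKrullDim S ≤ ringKrullDim R + ringKrullDim T := by
  let I := (maximalIdeal R).map (algebraMap R S)
  haveI : (maximalIdeal S).LiesOver (maximalIdeal R) :=
    ⟨le_antisymm (fun a ha => map_nonunit (algebraMap R S) a ha)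
      (IsLocalRing.le_maximalIdeal (Ideal.comap_ne_top _ (maximalIdeal.isMaximal S).ne_top))⟩
  have h := Ideal.height_le_height_add_of_liesOver (maximalIdeal R) (maximalIdeal S)
  rw [← maximalIdeal_height_eq_ringKrullDim (R := S)]
  refine (WithBot.coe_le_coe.2 h).trans ?_
  rw [WithBot.coe_add, maximalIdeal_height_eq_ringKrullDim (R := R)]
  refine add_le_add le_rfl ?_
  have hmax : ((maximalIdeal S).map (Ideal.Quotient.mk I)).IsPrime := by
    refine Ideal.map_isPrime_of_surjective Ideal.Quotient.mk_surjective ?_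
    rw [Ideal.mk_ker]
    exact Ideal.map_le_iff_le_comap.2 fun a ha => map_nonunit (algebraMap R S) a ha
  refine le_trans (Ideal.height_le_ringKrullDim_of_ne_top hmax.ne_top) ?_
  have hQ : ∀ P : PrimeSpectrum (S ⧸ I), ∃ Q : PrimeSpectrum T,
      PrimeSpectrum.comap π Q = PrimeSpectrum.comap (Ideal.Quotient.mk I) P := fun P => by
    refine hlift _ fun a ha => ?_
    show Ideal.Quotient.mk I a ∈ P.asIdeal
    rw [Ideal.Quotient.eq_zero_iff_mem.2 ha]
    exact zero_mem _
  choose Q hQ using hQ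
  refine Order.krullDim_le_of_strictMono Q fun P P' hlt => ?_
  have key : ∀ P₁ P₂, Q P₁ ≤ Q P₂ ↔ P₁ ≤ P₂ := by
    intro P₁ P₂
    constructor
    · intro h a ha
      obtain ⟨b, rfl⟩ := Ideal.Quotient.mk_surjective a
      have h1 : b ∈ (PrimeSpectrum.comap π (Q P₁)).asIdeal := by rw [hQ]; exact ha
      have h2 : b ∈ (PrimeSpectrum.comap π (Q P₂)).asIdeal := h h1
      rw [hQ] at h2
      exact h2
    · intro h t ht
      obtain ⟨b, rfl⟩ := hπ t
      have h1 : b ∈ (PrimeSpectrum.comap π (Q P₁)).asIdeal := ht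
      rw [hQ] at h1
      have h2 : b ∈ (PrimeSpectrum.comap π (Q P₂)).asIdeal := by rw [hQ]; exact h h1
      exact h2
  exact lt_of_le_not_ge ((key P P').2 hlt.le) fun h => lt_irrefl P (hlt.trans_le ((key P' P).1 h))

theorem ringKrullDim_stalk_le_add_fiber {X Y : Scheme.{u}} [IsLocallyNoetherian Y] (f : X ⟶ Y)
    [LocallyOfFiniteType f] (x : X) :
    ringKrullDim (X.presheaf.stalk x) ≤
      ringKrullDim (Y.presheaf.stalk (f.base x)) + ringKrullDim ((f.fiber (f.base x)).presheaf.stalk (f.asFiber x)) := by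
  haveI : IsLocallyNoetherian X := LocallyOfFiniteType.isLocallyNoetherian f
  letI : Algebra (Y.presheaf.stalk (f.base x)) (X.presheaf.stalk x) := (f.stalkMap x).hom.toAlgebra
  haveI : IsLocalHom (algebraMap (Y.presheaf.stalk (f.base x)) (X.presheaf.stalk x)) :=
    inferInstanceAs (IsLocalHom (f.stalkMap x).hom)
  let ι := f.fiberι (f.base x)
  have hx : ι (f.asFiber x) = x := f.fiberι_asFiber x
  let π := X.presheaf.stalkSpecializes (specializes_of_eq hx) ≫ ι.stalkMap (f.asFiber x)
  refine ringKrullDim_le_add_of_primes π.hom ?_ fun P hP => ?_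
  · rw [CommRingCat.hom_comp]
    refine (SurjectiveOnStalks.surj_on_stalks (f := ι) (f.asFiber x)).comp ?_
    intro b
    refine ⟨(X.presheaf.stalkSpecializes (specializes_of_eq hx.symm)).hom b, ?_⟩
    simp
  -- the point of `X` given by `P`
  have hy : f (X.fromSpecStalk x P) = f x := by
    rw [← Scheme.Hom.comp_apply, ← Scheme.SpecMap_stalkMap_fromSpecStalk f, Scheme.Hom.comp_apply]
    have : Spec.map (f.stalkMap x) P = closedPoint (Y.presheaf.stalk (f x)) := by
      refine PrimeSpectrum.ext ((maximalIdeal.isMaximal _).eq_of_le ?_ ?_).symm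
      · exact (PrimeSpectrum.comap (f.stalkMap x).hom P).2.ne_top
      · exact Ideal.map_le_iff_le_comap.1 hP
    rw [this, Scheme.fromSpecStalk_closedPoint]
  obtain ⟨z, hz⟩ : X.fromSpecStalk x P ∈ Set.range ι := by
    rw [Scheme.Hom.range_fiberι]; exact hy
  have hspec : X.fromSpecStalk x P ⤳ x := by
    have := Scheme.range_fromSpecStalk (X := X) (x := x)
    exact (this ▸ Set.mem_range_self P : X.fromSpecStalk x P ∈ {z | z ⤳ x})
  have hzs : z ⤳ f.asFiber x :=
    ι.isEmbedding.toIsInducing.specializes_iff.1 (by rw [hz, hx]; exact hspec)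
  obtain ⟨Q, hQ⟩ : z ∈ Set.range ((f.fiber (f.base x)).fromSpecStalk (f.asFiber x)) := by
    rw [Scheme.range_fromSpecStalk]; exact hzs
  refine ⟨Q, (X.fromSpecStalk x).isEmbedding.injective ?_⟩
  rw [← hz, ← hQ, ← Scheme.Hom.comp_apply _ ι, ← Scheme.SpecMap_stalkMap_fromSpecStalk ι]
  show X.fromSpecStalk x (Spec.map π Q) = _
  rw [Spec.map_comp, Scheme.Hom.comp_apply, ← Scheme.Hom.comp_apply _ (X.fromSpecStalk x),
    Scheme.SpecMap_stalkSpecializes_fromSpecStalk, ← Scheme.Hom.comp_apply]

end Groth.Agent.FibreDim
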